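import Groth.Prelude.Def_AlgSpMor6
import Groth.Agent.AlgSpLib.LocP
import Groth.Agent.AlgSpLib.SchFpqc
import Groth.Agent.KRIdeal.Immersion
import Groth.Agent.KRIdeal.Koszul
import Groth.Agent.KRIdeal.Scheme

/-!
Descent of LCI along etale surjective base change; cancellation of smooth morphisms for LCI morphisms of algebraic spaces.
-/

set_option autoImplicit false
set_option backward.isDefEq.respectTransparency.types false
universe u
open CategoryTheory CategoryTheory.Limits AlgebraicGeometry AlgSp Groth.Agent.KRIdeal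

namespace Groth.Agent.AlgSpLCI

/-- LCI descends along an etale surjective base change of the target. -/
theorem schLCI_of_etale_surjective {U V V' : Scheme.{u}} (h : U ⟶ V) (v : V' ⟶ V) [Etale v] [Surjective v]
    (H : SchLCI (pullback.snd h v)) : SchLCI h := by
  have := descendsAlong_flat.{u}
  refine Groth.Agent.AlgSpLib.of_fpqc_local (P := SchLCI) h fun Z hZ => ?_
  let Ι := {A : V'.Opens // IsAffineOpen A ∧ A ≤ v ⁻¹ᵁ Z}
  obtain ⟨t, ht⟩ := hZ.isCompact.elim_finite_subcover (fun A : Ι => v.base '' (A.1 : Set V'))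
    (fun A => v.isOpenMap _ A.1.2) (fun z hz => by
      obtain ⟨w, rfl⟩ := v.surjective z
      obtain ⟨_, ⟨A, hA, rfl⟩, hwA, hAle⟩ := (V'.isBasis_affineOpens).exists_subset_of_mem_open
        (show w ∈ ((v ⁻¹ᵁ Z : V'.Opens) : Set V') from hz) (v ⁻¹ᵁ Z).2
      exact Set.mem_iUnion.2 ⟨⟨A, hA, hAle⟩, w, hwA, rfl⟩)
  refine ⟨t.card, fun j => (t.equivFin.symm j).1.1.toScheme,
    fun j => V'.homOfLE (t.equivFin.symm j).1.2.2 ≫ v ∣_ Z, fun j => (t.equivFin.symm j).1.2.1,
    fun j => inferInstance, fun z => ?_, fun j => ?_⟩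
  · obtain ⟨A, hA, w, hw, hwz⟩ := Set.mem_iUnion₂.1 (ht z.2)
    refine ⟨t.equivFin ⟨A, hA⟩, ⟨w, ?_⟩, Z.ι.isOpenEmbedding.injective ?_⟩
    · rw [Equiv.symm_apply_apply]; exact hw
    rw [← Scheme.Hom.comp_apply]
    simp only [Category.assoc, morphismRestrict_ι, Scheme.homOfLE_ι_assoc]
    exact hwz
  · have hk : (V'.homOfLE (t.equivFin.symm j).1.2.2 ≫ v ∣_ Z) ≫ Z.ι = (t.equivFin.symm j).1.1.ι ≫ v := by simp
    rw [hk]
    set A := (t.equivFin.symm j).1.1
    let m : pullback h (A.ι ≫ v) ⟶ pullback h v :=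
      pullback.lift (pullback.fst _ _) (pullback.snd _ _ ≫ A.ι) (by rw [Category.assoc]; exact pullback.condition)
    have sq : IsPullback m (pullback.snd h (A.ι ≫ v)) (pullback.snd h v) A.ι := by
      refine IsPullback.of_right ?_ (pullback.lift_snd _ _ _) (IsPullback.of_hasPullback h v)
      rw [pullback.lift_fst]
      exact IsPullback.of_hasPullback h (A.ι ≫ v)
    exact schLCI_baseChange sq H

/-- If `q` is smooth and `f ≫ q` is LCI then so is `f`. -/
theorem isLCIMor_of_comp_smooth {S : Scheme.{u}} {X Y Z : Sp S} (hZ : IsAlgSpace Z) {f : X ⟶ Y} {p : X ⟶ Z}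
    {q : Y ⟶ Z} (hc : f ≫ q = p) (hq : LocP @Smooth q) (hp : IsLCIMor p) : IsLCIMor f := by
  intro U V a b h ha hb w
  obtain ⟨W, c, hcE, hcS⟩ := hZ.atlas
  obtain ⟨V', v2, v1, sV⟩ := Groth.Agent.AlgSpLib.exists_isPullback hcE.1 (b ≫ q)
  have h1 : Etale v1.left := Groth.Agent.AlgSpLib.prop_snd sV hcE
  have h1s : Surjective v1.left := Groth.Agent.AlgSpLib.prop_snd sV hcS
  let U' : Over S := Over.mk (pullback.fst h.left v1.left ≫ U.hom)
  let u1 : U' ⟶ U := Over.homMk (pullback.fst _ _) rfl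
  let u2 : U' ⟶ V' := Over.homMk (pullback.snd _ _) (by
    show pullback.snd h.left v1.left ≫ V'.hom = pullback.fst h.left v1.left ≫ U.hom
    rw [← Over.w v1, ← Over.w h, pullback.condition_assoc])
  have hu : u1 ≫ h = u2 ≫ v1 := Over.OverMorphism.ext pullback.condition
  have hu1 : Etale u1.left := by
    show Etale (pullback.fst h.left v1.left)
    haveI := h1
    infer_instance
  have ha' : RepWith @Etale ((yon S).map u1 ≫ a) :=
    Groth.Agent.AlgSpLib.repWith_comp ((repWith_yon_map_iff _ u1).2 hu1) ha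
  have hb' : RepWith @Etale ((yon S).map v1 ≫ b) :=
    Groth.Agent.AlgSpLib.repWith_comp ((repWith_yon_map_iff _ v1).2 h1) hb
  have hv2 : Smooth v2.left := hq ((yon S).map v1 ≫ b) c v2 hb' hcE (by rw [Category.assoc]; exact sV.w.symm)
  have hu2 : ∀ x, Synt.IsKoszulAt (u2 ≫ v2).left x := hp ((yon S).map u1 ≫ a) c (u2 ≫ v2) ha' hcE (by
    rw [← hc, Category.assoc, reassoc_of% w, ← Functor.map_comp_assoc, hu, Functor.map_comp, Functor.map_comp,
      Category.assoc, Category.assoc, sV.w])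
  haveI := h1
  haveI := h1s
  haveI := hv2
  have : SchLCI (pullback.snd h.left v1.left) :=
    schLCI_of_comp (pullback.snd h.left v1.left) v2.left (schLCI_of_isKoszulAt _ hu2)
  exact fun x => isKoszulAt_of_schLCI h.left (schLCI_of_etale_surjective h.left v1.left this) x

end Groth.Agent.AlgSpLCI
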